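import Cfsg.Agent.H157.S5.PspIn
import Cfsg.Agent.H132.S5.Outer
import Cfsg.Agent.H206.PspBal

/-!
# S2274, `PSp_2m(q)` in cross characteristic: outer automorphisms
-/

set_option autoImplicit false
set_option linter.unusedSectionVars false

universe u

namespace Cfsg.Agent.H157.S5

open Cfsg Cfsg.Agent.H533.T5 Cfsg.Agent.H132.S5 Cfsg.Agent.H423.PGBlk Cfsg.Agent.H157.S5.Blk
open Cfsg.Agent.ClassicalGeometry.SympBasic Cfsg.Agent.ClassicalGeometry.SympAutSemi
  Cfsg.Agent.ClassicalGeometry.SympGamma Cfsg.Agent.ClassicalGeometry.SympAutExists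
open Cfsg.Agent.H206.PspBal Cfsg.Agent.H206.PspFix
open Matrix

variable {F : Type} [Field F] [Fintype F]

/-- the fixed field -/
theorem exists_subfield {p : ℕ} {σ : F ≃+* F} (hσ : orderOf σ = p) :
    ∃ K₀ : Subfield F, (∀ a, σ a = a ↔ ∃ b : K₀, K₀.subtype b = a) ∧ Nat.card K₀ ^ p = Fintype.card F := by
  have hfin : Finite (F ≃+* F) := Cfsg.Agent.H862.T5.SpRow.finite_ringAut
  let G : Subgroup (F ≃+* F) := Subgroup.zpowers σ
  have : Fintype G := Fintype.ofFinite _
  let K₀ : Subfield F := FixedPoints.subfield G F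
  have hmem : ∀ a, a ∈ K₀ ↔ σ a = a := by
    intro a
    constructor
    · intro h
      exact h ⟨σ, Subgroup.mem_zpowers σ⟩
    · rintro h ⟨g, hg⟩
      have h1 : G ≤ MulAction.stabilizer (F ≃+* F) a := by
        rw [Subgroup.zpowers_le]
        exact h
      exact h1 hg
  refine ⟨K₀, fun a => ?_, ?_⟩
  · rw [← hmem]
    exact ⟨fun h => ⟨⟨a, h⟩, rfl⟩, fun ⟨b, hb⟩ => hb ▸ b.2⟩
  · have h1 : Module.finrank K₀ F = Fintype.card G := FixedPoints.finrank_eq_card G F
    have h2 : Fintype.card G = p := by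
      rw [← Nat.card_eq_fintype_card, Nat.card_zpowers, hσ]
    have h3 := Module.natCard_eq_pow_finrank (K := K₀) (V := F)
    rw [h1, h2, Nat.card_eq_fintype_card] at h3
    exact h3.symm

/-- an element of order `p` over the fixed field -/
theorem exists_fixed_elt {p : ℕ} [hp : Fact p.Prime] (hpF : (p : F) ≠ 0) {m : ℕ}
    (hm : m = kk (Fintype.card F) p) {σ : F ≃+* F} (hσ : orderOf σ = p) :
    ∃ z : symplecticGroup (Fin m) F, orderOf z = p ∧ mapSp m (σ : F →+* F) z = z := by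
  obtain ⟨K₀, hj, hcard⟩ := exists_subfield hσ
  have hfin : Finite K₀ := Subtype.finite
  have : Fintype K₀ := Fintype.ofFinite _
  have hm0 : 0 < m := hm ▸ kk_pos hpF
  have hq : ((Nat.card K₀ : ℕ) : ZMod p) = ((Fintype.card F : ℕ) : ZMod p) := by
    rw [← hcard, Nat.cast_pow, ZMod.pow_card]
  have h1 : ((Fintype.card F : ℕ) : ZMod p) ^ (2 * m) = 1 := by
    rw [← orderOf_dvd_iff_pow_eq_one, hm, two_mul_kk]
    split_ifs
    · exact dvd_rfl
    · exact dvd_mul_left _ _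
  have h2 : p ∣ Nat.card K₀ ^ (2 * m) - 1 := by
    rw [← ZMod.natCast_eq_zero_iff, Nat.cast_sub (Nat.one_le_pow _ _ Nat.card_pos), Nat.cast_pow, hq, h1]
    simp
  have h3 : p ∣ Nat.card (symplecticGroup (Fin m) K₀) := by
    rw [S0245.result (F := K₀) (Nat.card_eq_fintype_card).symm m]
    refine dvd_mul_of_dvd_right (h2.trans ?_) _
    have h4 : m = (m - 1) + 1 := by omega
    have h5 : Nat.card K₀ ^ (2 * m) - 1 = Nat.card K₀ ^ (2 * (m - 1 + 1)) - 1 := by rw [← h4]
    rw [h5]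
    exact Finset.dvd_prod_of_mem _ (Finset.mem_range.2 (by omega))
  have hfin2 : Finite (symplecticGroup (Fin m) K₀) := Subtype.finite
  obtain ⟨z, hz⟩ := exists_prime_orderOf_dvd_card' p h3
  refine ⟨mapSp m K₀.subtype z, ?_, ?_⟩
  · rw [orderOf_injective _ (mapSp_injective _), hz]
  · exact (mem_range_mapSp hj).1 ⟨z, rfl⟩

/-- elements of order `p`, cyclic Sylow subgroups -/
theorem exists_conj_mem_zpowers {G : Type*} [Group G] [Finite G] {p : ℕ} [hp : Fact p.Prime]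
    (hG : ∀ P : Sylow p G, IsCyclic ↥(P : Subgroup G)) {x z : G} (hx : orderOf x = p) (hz : orderOf z = p) :
    ∃ g : G, g * x * g⁻¹ ∈ Subgroup.zpowers z := by
  have hpg : ∀ y : G, orderOf y = p → IsPGroup p ↥(Subgroup.zpowers y) := fun y hy =>
    IsPGroup.of_card (n := 1) (by rw [Nat.card_zpowers, hy, pow_one])
  obtain ⟨P, hP⟩ := (hpg x hx).exists_le_sylow
  obtain ⟨Q, hQ⟩ := (hpg z hz).exists_le_sylow
  obtain ⟨g, hg⟩ := MulAction.exists_smul_eq G P Q
  refine ⟨g, ?_⟩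
  have h1 : g * x * g⁻¹ ∈ (Q : Subgroup G) := by
    rw [← hg]
    exact Subgroup.smul_mem_pointwise_smul _ (MulAut.conj g) (P : Subgroup G) (hP (Subgroup.mem_zpowers x))
  have hc := hG Q
  have h2 : (⟨g * x * g⁻¹, h1⟩ : ↥(Q : Subgroup G)) ∈
      Subgroup.zpowers (⟨z, hQ (Subgroup.mem_zpowers z)⟩ : ↥(Q : Subgroup G)) := by
    refine Cfsg.Agent.H862.T5.SpRow.mem_zpowers_of_orderOf hp.out ?_ ?_
    · rw [Subgroup.orderOf_mk, hz]
    · rw [Subgroup.orderOf_mk, ← hx]
      exact orderOf_injective (MulAut.conj g).toMonoidHom (MulAut.conj g).injective x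
  obtain ⟨k, hk⟩ := h2
  exact ⟨k, congrArg Subtype.val hk⟩

theorem mapSp_blk {k l : ℕ} (σ : F ≃+* F) (x : symplecticGroup (Fin k) F × symplecticGroup (Fin l) F) :
    mapSp (k + l) (σ : F →+* F) (blkSp k l x) =
      blkSp k l (mapSp k (σ : F →+* F) x.1, mapSp l (σ : F →+* F) x.2) := by
  apply Subtype.ext
  change ((Matrix.fromBlocks x.1.1 0 0 x.2.1).submatrix (spE k l).symm (spE k l).symm).map σ =
    (Matrix.fromBlocks (x.1.1.map σ) 0 0 (x.2.1.map σ)).submatrix (spE k l).symm (spE k l).symm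
  rw [← Matrix.submatrix_map, Matrix.fromBlocks_map, Matrix.map_zero _ (map_zero σ), Matrix.map_zero _ (map_zero σ)]

/-- **Elements of order `p` have conjugates fixed by `σ`.** -/
theorem exists_fixed_conj {p : ℕ} [hp : Fact p.Prime] (h5 : 5 ≤ p) (hpF : (p : F) ≠ 0) {σ : F ≃+* F}
    (hσ : orderOf σ = p) : ∀ (m : ℕ) (A : symplecticGroup (Fin m) F), A ^ p = 1 →
    ∃ g : symplecticGroup (Fin m) F, mapSp m (σ : F →+* F) (g * A * g⁻¹) = g * A * g⁻¹ := by
  intro m
  induction m using Nat.strong_induction_on with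
  | _ m ih =>
    intro A hA
    by_cases hA1 : A = 1
    · exact ⟨1, by rw [hA1]; simp⟩
    have hA' : orderOf A = p := orderOf_eq_prime hA hA1
    have hk0 := kk_pos (F := F) (p := p) hpF
    rcases (kk_le h5 hpF hA').lt_or_eq with h | h
    · obtain ⟨l, rfl⟩ := Nat.exists_eq_add_of_le h.le
      obtain ⟨g, x, hx, hx1, hx2⟩ := exists_blk h5 hpF rfl hA'
      obtain ⟨g₁, h₁⟩ := ih (kk (Fintype.card F) p) h x.1 (orderOf_dvd_iff_pow_eq_one.1 (by rw [hx1]))
      obtain ⟨g₂, h₂⟩ := ih l (by omega) x.2 hx2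
      refine ⟨blkSp _ l (g₁, g₂) * g, ?_⟩
      have e : blkSp (kk (Fintype.card F) p) l (g₁, g₂) * g * A * (blkSp _ l (g₁, g₂) * g)⁻¹ =
          blkSp (kk (Fintype.card F) p) l (g₁ * x.1 * g₁⁻¹, g₂ * x.2 * g₂⁻¹) := by
        have e1 : blkSp (kk (Fintype.card F) p) l (g₁, g₂) * g * A * (blkSp _ l (g₁, g₂) * g)⁻¹ =
          blkSp (kk (Fintype.card F) p) l (g₁, g₂) * (g * A * g⁻¹) * (blkSp _ l (g₁, g₂))⁻¹ := by group
        rw [e1, hx, ← map_inv, ← map_mul, ← map_mul]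
        rfl
      rw [e, mapSp_blk, h₁, h₂]
    · obtain ⟨z, hz, hzσ⟩ := exists_fixed_elt hpF h.symm hσ
      obtain ⟨g, hg⟩ := exists_conj_mem_zpowers (fun P => cyclic_sylow_sp h5 hpF h.symm P) hA' hz
      obtain ⟨k, hk⟩ := hg
      have hk' : z ^ k = g * A * g⁻¹ := hk
      exact ⟨g, by rw [← hk', map_zpow, hzσ]⟩

/-! ### the fixed points of field automorphisms -/

theorem le_range_psi {m : ℕ} (hm1 : 1 ≤ m) {p : ℕ} (h2 : Odd p) {σ : F ≃+* F} (hσ : orderOf σ = p) {K₀ : Subfield F}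
    (hj : ∀ a, σ a = a ↔ ∃ b : K₀, K₀.subtype b = a) {c : PSp m F} (hc : phi m F σ c = c) :
    c ∈ (psi m K₀.subtype).range := by
  obtain ⟨s, rfl⟩ := QuotientGroup.mk_surjective c
  rw [phi_mk, eq_comm, QuotientGroup.eq] at hc
  obtain ⟨a, ha⟩ := (LieClassical.SympCenter.mem_center_iff m _).1 hc
  have haa := LieClassical.SympCenter.sq_eq_one_of_smul_mem (F := F) hm1 (ha ▸ (s⁻¹ * mapSp m (σ : F →+* F) s).2)
  have ha1 : a = 1 ∨ a = -1 := mul_self_eq_one_iff.1 haa
  -- `σ(s) = a s`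
  have h3 : s.1.map σ = a • s.1 := by
    have h4 : mapSp m (σ : F →+* F) s = s * (s⁻¹ * mapSp m (σ : F →+* F) s) := by group
    have h5 := congrArg Subtype.val h4
    change s.1.map σ = s.1 * (s⁻¹ * mapSp m (σ : F →+* F) s).1 at h5
    rw [h5, ha, mul_smul_comm, mul_one]
  have hσa : ∀ n : ℕ, (σ ^ n) a = a := by
    intro n
    rcases ha1 with rfl | rfl
    · exact map_one _
    · rw [map_neg, map_one]
  have h6 : ∀ n : ℕ, s.1.map (σ ^ n) = a ^ n • s.1 := by
    intro n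
    induction n with
    | zero => ext i k; simp
    | succ n ih =>
      ext i k
      have h7 := congrFun (congrFun h3 i) k
      have h8 := congrFun (congrFun ih i) k
      rw [Matrix.map_apply, Matrix.smul_apply, smul_eq_mul] at h7 h8 ⊢
      rw [pow_succ, RingAut.mul_apply, h7, map_mul, hσa, h8, pow_succ]
      ring
  have h7 := h6 p
  rw [← hσ, pow_orderOf_eq_one, hσ] at h7
  have h8 : a = 1 := by
    rcases ha1 with h | h
    · exact h
    · rw [h, h2.neg_one_pow, neg_one_smul] at h7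
      by_cases h2F : (2 : F) = 0
      · rw [h]
        linear_combination -h2F
      · exfalso
        have h10 : s.1 = 0 := by
          ext i k
          have h11 := congrFun (congrFun h7 i) k
          have h12 : s.1 i k = -s.1 i k := h11
          have h13 : (2 : F) * s.1 i k = 0 := by linear_combination h12
          exact (mul_eq_zero.1 h13).resolve_left h2F
        have h11 : rho m F s (Pi.single (Sum.inl ⟨0, hm1⟩) 1) = rho m F s 0 := by
          rw [rho_apply, rho_apply, h10, Matrix.zero_mulVec, Matrix.zero_mulVec]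
        have h12 := congrFun ((rho m F s).injective h11) (Sum.inl ⟨0, hm1⟩)
        rw [Pi.single_eq_same] at h12
        exact one_ne_zero h12
  rw [h8, one_smul] at h3
  obtain ⟨B, hB⟩ := (mem_range_mapSp hj (s := s)).2 (Subtype.ext h3)
  exact ⟨B, by rw [psi_apply, hB]⟩

open Cfsg.Agent.H28.T5Mid Cfsg.Agent.H28.T5Ok in
/-- `SB` from the fixed points -/
theorem sb_of_fix {S H : Type*} [Group S] [Group H] {d : MulAut S} (f : H →* S) (hf : Function.Injective f)
    (hfix : ∀ y, d y = y ↔ y ∈ f.range) (N : Subgroup H) (hNn : N.Normal) (hN : IsSimpleGroup ↥N)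
    (hna : ¬ IsMulCommutative ↥N) (hc : ∀ y, y ∈ Subgroup.centralizer (N : Set H) → y = 1) : SB d := by
  have e := N.equivMapOfInjective f hf
  refine ⟨N.map f, ?_, ?_, e.symm.isSimpleGroup, ?_, ?_⟩
  · rintro _ ⟨n, -, rfl⟩
    exact (hfix _).2 ⟨n, rfl⟩
  · intro y hy
    obtain ⟨h, rfl⟩ := (hfix y).1 hy
    have h1 : N ≤ Subgroup.normalizer ((N : Subgroup H) : Set H) := Subgroup.le_normalizer
    have h2 : h ∈ Subgroup.normalizer ((N : Subgroup H) : Set H) := by
      rw [Subgroup.normalizer_eq_top_iff.2 hNn]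
      exact Subgroup.mem_top _
    rw [Subgroup.mem_normalizer_iff] at h2 ⊢
    intro z
    constructor
    · rintro ⟨w, hw, rfl⟩
      exact ⟨h * w * h⁻¹, (h2 w).1 hw, by rw [map_mul, map_mul, map_inv]⟩
    · rintro ⟨w, hw, hw'⟩
      refine ⟨h⁻¹ * w * h, ?_, ?_⟩
      · rw [SetLike.mem_coe, h2]
        have : h * (h⁻¹ * w * h) * h⁻¹ = w := by group
        rw [this]
        exact hw
      · rw [map_mul, map_mul, map_inv, hw']
        group
  · rintro ⟨⟨h⟩⟩
    refine hna ⟨⟨fun a b => e.injective ?_⟩⟩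
    rw [map_mul, map_mul]
    exact h _ _
  · intro y hy hyc
    obtain ⟨h, rfl⟩ := (hfix y).1 hy
    rw [hc h, map_one]
    rw [Subgroup.mem_centralizer_iff] at hyc ⊢
    intro n hn
    apply hf
    rw [map_mul, map_mul]
    exact hyc _ ⟨n, hn, rfl⟩

theorem centralizer_alt_six (y : Equiv.Perm (Fin 6))
    (hy : y ∈ Subgroup.centralizer ((alternatingGroup (Fin 6) : Subgroup _) : Set (Equiv.Perm (Fin 6)))) : y = 1 := by
  have hcard : 5 ≤ Nat.card (Fin 6) := by
    rw [Nat.card_eq_fintype_card, Fintype.card_fin]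
    omega
  have hnC : (Subgroup.centralizer ((alternatingGroup (Fin 6) : Subgroup _) : Set (Equiv.Perm (Fin 6)))).Normal :=
    inferInstance
  by_contra hy1
  have hne : Nontrivial ↥(Subgroup.centralizer ((alternatingGroup (Fin 6) : Subgroup _) : Set (Equiv.Perm (Fin 6)))) := by
    rw [Subgroup.nontrivial_iff_ne_bot]
    intro h
    rw [h, Subgroup.mem_bot] at hy
    exact hy1 hy
  have h1 := Equiv.Perm.alternatingGroup_le_of_normal hcard hne
  have h2 : IsMulCommutative (alternatingGroup (Fin 6)) := ⟨⟨fun a b => by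
    apply Subtype.ext
    exact ((Subgroup.mem_centralizer_iff.1 (h1 a.2)) b b.2).symm⟩⟩
  rw [alternatingGroup.isMulCommutative_iff_card_le_three] at h2
  omega

open Cfsg.Agent.H28.T5Mid Cfsg.Agent.H28.T5Ok in
/-- the fixed points of a field automorphism -/
theorem sb_phi {m : ℕ} (hm : 2 ≤ m) {p : ℕ} (hp : Odd p) {σ : F ≃+* F} (hσ : orderOf σ = p) :
    SB (phi m F σ) := by
  obtain ⟨K₀, hj, -⟩ := exists_subfield hσ
  have hm1 : 1 ≤ m := by omega
  have hfin : Finite K₀ := Subtype.finite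
  have : Fintype K₀ := Fintype.ofFinite _
  have hker := ker_psi (m := m) K₀.subtype hm1
  have hfix : ∀ y, phi m F σ y = y ↔ y ∈ (psi m K₀.subtype).range := by
    intro y
    constructor
    · exact fun h => le_range_psi hm1 hp hσ hj h
    · rintro ⟨A, rfl⟩
      rw [psi_apply, phi_mk, (mem_range_mapSp hj).1 ⟨A, rfl⟩]
  by_cases hs : m = 2 → 3 ≤ Fintype.card K₀
  · have hsimp := S0270.result (F := K₀) m hm hs
    have hna := Cfsg.Agent.H458.RowPSp.not_comm (F := K₀) hm hs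
    let e : PSp m K₀ ≃* (psi m K₀.subtype).range :=
      (QuotientGroup.quotientMulEquivOfEq hker.symm).trans (QuotientGroup.quotientKerEquivRange _)
    have et : (⊤ : Subgroup (PSp m K₀)) ≃* PSp m K₀ := Subgroup.topEquiv
    refine sb_of_fix ((psi m K₀.subtype).range.subtype.comp e.toMonoidHom)
      (Subtype.val_injective.comp e.injective) ?_ ⊤ inferInstance et.isSimpleGroup ?_ ?_
    · intro y
      rw [hfix]
      constructor
      · intro hy
        exact ⟨e.symm ⟨y, hy⟩, by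
          change ((e (e.symm ⟨y, hy⟩) : (psi m K₀.subtype).range) : PSp m F) = y
          rw [e.apply_symm_apply]⟩
      · rintro ⟨z, rfl⟩
        exact (e z).2
    · rintro ⟨⟨h⟩⟩
      refine hna ⟨⟨fun a b => et.symm.injective ?_⟩⟩
      rw [map_mul, map_mul]
      exact h _ _
    · intro y hy
      rw [Subgroup.coe_top, Subgroup.centralizer_univ, Cfsg.Agent.H533.T5.center_eq_bot_of_simple hna,
        Subgroup.mem_bot] at hy
      exact hy
  · push Not at hs
    obtain ⟨rfl, hs⟩ := hs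
    have hc2 : Fintype.card K₀ = 2 := by
      have := Fintype.one_lt_card (α := K₀)
      omega
    obtain ⟨e⟩ := LieClassical.SpFourTwo.nonempty_equiv_perm hc2
    have hker' : (psi 2 K₀.subtype).ker = ⊥ := by
      rw [hker]
      exact Subgroup.card_eq_one.1 (by rw [S0246.result hc2 2 (by omega)]; rfl)
    have hcard : 5 ≤ Nat.card (Fin 6) := by
      rw [Nat.card_eq_fintype_card, Fintype.card_fin]
      omega
    refine sb_of_fix ((psi 2 K₀.subtype).comp e.symm.toMonoidHom)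
      (((MonoidHom.ker_eq_bot_iff _).1 hker').comp e.symm.injective) ?_ (alternatingGroup (Fin 6)) inferInstance
      (alternatingGroup.isSimpleGroup hcard) ?_ centralizer_alt_six
    · intro y
      rw [hfix]
      constructor
      · rintro ⟨A, rfl⟩
        exact ⟨e A, by
          change psi 2 K₀.subtype (e.symm (e A)) = _
          rw [e.symm_apply_apply]⟩
      · rintro ⟨z, rfl⟩
        exact ⟨e.symm z, rfl⟩
    · intro h
      rw [alternatingGroup.isMulCommutative_iff_card_le_three] at h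
      omega

/-! ### the outer automorphisms -/

open Cfsg.Agent.H862.T5.SpRow in
theorem outer_cases {m : ℕ} (hm : 2 ≤ m) (h22 : m = 2 → 3 ≤ Fintype.card F) {p : ℕ} (hp : p.Prime) (h5 : 5 ≤ p)
    {a : MulAut (PSp m F)} (ha : orderOf a = p) (hao : ¬ ∃ g, a = MulAut.conj g) :
    ∃ φ : F ≃+* F, orderOf φ = p ∧ ∃ s ∈ (MulAut.conj : PSp m F →* MulAut (PSp m F)).range,
      a = s * phi m F φ * s⁻¹ := by
  have hap : a ^ p = 1 := by rw [← ha, pow_orderOf_eq_one]
  rcases Cfsg.Agent.H458.SpAut.inner_or_field hm h22 (hp.odd_of_ne_two (by omega)) hap with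
    ⟨s, rfl⟩ | ⟨g, φ, l, hl, hg, hφ, rfl⟩
  · exact absurd ⟨s, rfl⟩ hao
  · obtain ⟨h1, h2⟩ := exists_inner_conj hm h22 hp (by omega) hl hg hap hφ
    exact ⟨φ, h1, h2⟩

open Cfsg.Agent.H28.T5Mid Cfsg.Agent.H28.T5Ok in
/-- **The outer automorphisms of order `p` of `PSp`.** -/
theorem outerOk_psp {m : ℕ} (hm : 2 ≤ m) (h22 : m = 2 → 3 ≤ Fintype.card F) {p : ℕ} (hp : p.Prime) (h5 : 5 ≤ p) :
    OuterOk p (PSp m F) where
  sb d hd hdo _ := by
    obtain ⟨φ, hφ, s, -, rfl⟩ := outer_cases hm h22 hp h5 hd hdo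
    refine SB.conj s⁻¹ ?_
    have e : s⁻¹ * (s * phi m F φ * s⁻¹) * s⁻¹⁻¹ = phi m F φ := by group
    rw [e]
    exact sb_phi hm (hp.odd_of_ne_two (by omega)) hφ
  conj c d hc hd hco hdo := by
    obtain ⟨φ, hφ, s, hs, rfl⟩ := outer_cases hm h22 hp h5 hc hco
    obtain ⟨ψ, hψ, t, ht, rfl⟩ := outer_cases hm h22 hp h5 hd hdo
    have hcy : IsCyclic (F ≃+* F) := Cfsg.Agent.LieRecognition.FieldSemilinear.isCyclic_ringAut F
    have hfin : Finite (F ≃+* F) := Cfsg.Agent.H862.T5.SpRow.finite_ringAut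
    obtain ⟨j, hj⟩ := Subgroup.mem_zpowers_iff.1 (Cfsg.Agent.H862.T5.SpRow.mem_zpowers_of_orderOf hp hψ hφ)
    refine ⟨s * t⁻¹, mul_mem hs (inv_mem ht), j, ?_⟩
    have e : s * t⁻¹ * (t * phi m F ψ * t⁻¹) * (s * t⁻¹)⁻¹ = s * phi m F ψ * s⁻¹ := by group
    rw [e, conj_zpow, ← map_zpow, hj]

/-- **Elements of order `p` have conjugates fixed by an outer automorphism of order `p`.** -/
theorem fix_psp {m : ℕ} (hm : 2 ≤ m) (h22 : m = 2 → 3 ≤ Fintype.card F) {p : ℕ} (hp : p.Prime) (h5 : 5 ≤ p)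
    (hpF : (p : F) ≠ 0) {d : MulAut (PSp m F)} (hd : orderOf d = p) (hdo : ¬ ∃ g, d = MulAut.conj g) {x : PSp m F}
    (hx : orderOf x = p) : ∃ s, d (s * x * s⁻¹) = s * x * s⁻¹ := by
  have hpf : Fact p.Prime := ⟨hp⟩
  obtain ⟨φ, hφ, _, ⟨t, rfl⟩, rfl⟩ := outer_cases hm h22 hp h5 hd hdo
  obtain ⟨A, rfl, hA⟩ := Cfsg.Agent.H458.SpOp.exists_lift (by omega) hp (by omega) x hx
  obtain ⟨g, hg⟩ := exists_fixed_conj h5 hpF hφ m A (by rw [← hA, pow_orderOf_eq_one])
  refine ⟨t * QuotientGroup.mk g, ?_⟩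
  have h1 : phi m F φ (QuotientGroup.mk (g * A * g⁻¹)) = QuotientGroup.mk (g * A * g⁻¹) := by
    rw [phi_mk, hg]
  have e : t * QuotientGroup.mk g * (Cfsg.Agent.H458.SpOp.pr m F A) * (t * QuotientGroup.mk g)⁻¹ =
      t * (QuotientGroup.mk (g * A * g⁻¹) : PSp m F) * t⁻¹ := by
    rw [mk_conj]
    change t * QuotientGroup.mk g * (QuotientGroup.mk A : PSp m F) * (t * QuotientGroup.mk g)⁻¹ = _
    group
  rw [e, MulAut.mul_apply, MulAut.mul_apply]
  have e2 : (MulAut.conj t)⁻¹ (t * (QuotientGroup.mk (g * A * g⁻¹) : PSp m F) * t⁻¹) =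
      QuotientGroup.mk (g * A * g⁻¹) := by
    rw [← map_inv, MulAut.conj_apply]
    group
  rw [e2, h1, MulAut.conj_apply]

/-- **The strong row of `PSp_2m(q)`**, `m ≥ 2`, `p` prime to `q`. -/
theorem srow_psp {S : Type u} [Group S] [Finite S] {p : ℕ} (hp : p.Prime) (h5 : 5 ≤ p) (hpF : (p : F) ≠ 0)
    (B : SBox.{u} p) (hlt : SBelow.{u} p (Nat.card S)) {m : ℕ} (hm : 2 ≤ m) (h22 : m = 2 → 3 ≤ Fintype.card F)
    (e : S ≃* PSp m F) : SRow p S := by
  have hsimple : IsSimpleGroup (PSp m F) := S0270.result m hm h22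
  have hna : ¬ IsMulCommutative (PSp m F) := Cfsg.Agent.H458.RowPSp.not_comm hm h22
  have hs : IsSimpleGroup S := e.isSimpleGroup
  have hnaS : ¬ IsMulCommutative S := fun h => hna ⟨⟨fun a b => e.symm.injective (by
    rw [map_mul, map_mul]
    exact h.is_comm.comm _ _)⟩⟩
  have hO := (outerOk_psp hm h22 hp h5).congr e
  refine srow_of B.aa B.rs hp hnaS (fun x y hx hy => spair_inner hp h5 hpF B hlt hm h22 e hx hy) ?_ hO.sb hO.conj
  intro d hd hdo x hx
  have hor : orderOf (e x) = p := by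
    rw [← hx]
    exact orderOf_injective e.toMonoidHom e.injective x
  obtain ⟨s, hs⟩ := fix_psp hm h22 hp h5 hpF (d := MulAut.congr e d) (by rw [MulEquiv.orderOf_eq, hd])
    (by rwa [Cfsg.Agent.H28.T5Ok.inner_iff]) hor
  refine ⟨e.symm s, e.injective ?_⟩
  have h1 : MulAut.congr e d (s * e x * s⁻¹) = e (d (e.symm s * x * (e.symm s)⁻¹)) := by
    simp [MulAut.congr]
  rw [← h1, hs]
  simp

/-- **S2274, row C5.** -/
theorem srow_isPSp {S : Type u} [Group S] [Finite S] {p : ℕ} (hp : p.Prime) (h5 : 5 ≤ p) (B : SBox.{u} p)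
    (hlt : SBelow.{u} p (Nat.card S)) (hS : IsPSp S) (hch : ¬ IsPSpChar p S) : SRow p S := by
  obtain ⟨F, _, _, m, hm, h22, ⟨e⟩⟩ := hS
  refine srow_psp hp h5 (Cfsg.Agent.H862.T5.SpRow.cast_ne hp ?_) B hlt hm h22 e
  rintro ⟨hF⟩
  exact hch ⟨F, _, _, hF, m, hm, h22, ⟨e⟩⟩

end Cfsg.Agent.H157.S5
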