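import Cfsg.Agent.H122.S5.Sub
import Cfsg.Agent.H122.S5.Num
import Cfsg.Agent.H868.KTwD4
import Cfsg.Agent.S1071
import Cfsg.Agent.ChevalleyStructure.TwD4Card

/-!
# S2274: commuting products in `³D₄(q)` (helper157)

* `edat_one` : `q` of order `1` or `2` modulo `p`: `SL₂(q³)` and the long root `SL₂(q)`;
* `edat_three` : `q` of order `3` modulo `p`: the long root `SL₃(q)` and the torus of order `q² + q + 1`.
-/

set_option autoImplicit false
set_option linter.unusedSectionVars false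

namespace Cfsg.Agent.H157.S5.TD4Dat

open Subgroup Cfsg Cfsg.Lie Cfsg.Agent.H868 Cfsg.Agent.H868.KTwD4 Cfsg.Agent.H122.S5
open Cfsg.Agent.H92.ExcSL2 Cfsg.Agent.ChevalleyStructure Cfsg.Agent.ChevalleyStructure.Elts
  Cfsg.Agent.ChevalleyStructure.SL2Hom

/-! ### numbers -/

section Num

variable {p q : ℕ}

theorem dvd_iff' (hq : 1 ≤ q) (n : ℕ) : p ∣ q ^ n - 1 ↔ orderOf (q : ZMod p) ∣ n := by
  rw [orderOf_dvd_iff_pow_eq_one, ← CharP.cast_eq_zero_iff (ZMod p) p, Nat.cast_sub (Nat.one_le_pow _ _ hq)]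
  push_cast
  exact sub_eq_zero

theorem sub_one_mul (hq : 1 ≤ q) : (q ^ 2 - 1) * (q ^ 4 + q ^ 2 + 1) = q ^ 6 - 1 := by
  obtain ⟨x, hx⟩ := Nat.exists_eq_add_of_le (Nat.one_le_pow 2 q hq)
  have e4 : q ^ 4 = (q ^ 2) ^ 2 := by rw [← pow_mul]
  have e6 : q ^ 6 = (q ^ 2) ^ 3 := by rw [← pow_mul]
  rw [e4, e6, hx, Nat.add_sub_cancel_left]
  symm
  apply Nat.sub_eq_of_eq_add
  ring

theorem eight_mul (hq : 1 ≤ q) : (q ^ 4 - 1) * (q ^ 8 + q ^ 4 + 1) = q ^ 12 - 1 := by
  obtain ⟨x, hx⟩ := Nat.exists_eq_add_of_le (Nat.one_le_pow 4 q hq)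
  have e8 : q ^ 8 = (q ^ 4) ^ 2 := by rw [← pow_mul]
  have e12 : q ^ 12 = (q ^ 4) ^ 3 := by rw [← pow_mul]
  rw [e8, e12, hx, Nat.add_sub_cancel_left]
  symm
  apply Nat.sub_eq_of_eq_add
  ring

theorem four_mul : (q ^ 4 - q ^ 2 + 1) * (q ^ 4 + q ^ 2 + 1) = q ^ 8 + q ^ 4 + 1 := by
  have h0 : q ^ 2 ≤ q ^ 4 := by
    rcases Nat.eq_zero_or_pos q with rfl | h
    · norm_num
    · exact Nat.pow_le_pow_right h (by norm_num)
  zify [h0]
  ring

theorem two_mul' : (q ^ 2 - q + 1) * (q ^ 2 + q + 1) = q ^ 4 + q ^ 2 + 1 := by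
  have h0 : q ≤ q ^ 2 := Nat.le_self_pow (by norm_num) _
  zify [h0]
  ring

theorem six_mul : (q ^ 2 + 1) * (q ^ 4 - q ^ 2 + 1) = q ^ 6 + 1 := by
  have h0 : q ^ 2 ≤ q ^ 4 := by
    rcases Nat.eq_zero_or_pos q with rfl | h
    · norm_num
    · exact Nat.pow_le_pow_right h (by norm_num)
  zify [h0]
  ring

theorem three_mul' : (q + 1) * (q ^ 2 - q + 1) = q ^ 3 + 1 := by
  have h0 : q ≤ q ^ 2 := Nat.le_self_pow (by norm_num) _
  zify [h0]
  ring

theorem cube_mul (hq : 1 ≤ q) : (q ^ 3 - 1) * (q ^ 3 + 1) = q ^ 6 - 1 := by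
  obtain ⟨x, hx⟩ := Nat.exists_eq_add_of_le (Nat.one_le_pow 3 q hq)
  have e6 : q ^ 6 = (q ^ 3) ^ 2 := by rw [← pow_mul]
  rw [e6, hx, Nat.add_sub_cancel_left]
  symm
  apply Nat.sub_eq_of_eq_add
  ring

/-- `q ^ k ≡ 1` -/
theorem pow_one_of {k : ℕ} (h : orderOf (q : ZMod p) ∣ k) : (q : ZMod p) ^ k = 1 := orderOf_dvd_iff_pow_eq_one.1 h

theorem ndvd_two (h5 : 5 ≤ p) {n : ℕ} (h : (n : ZMod p) = 2) : ¬ p ∣ n := by
  intro h1
  rw [← CharP.cast_eq_zero_iff (ZMod p) p, h] at h1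
  have h2 : p ∣ 2 := by
    rw [← CharP.cast_eq_zero_iff (ZMod p) p]
    exact_mod_cast h1
  exact absurd (Nat.le_of_dvd (by norm_num) h2) (by omega)

theorem ndvd_three (h5 : 5 ≤ p) {n : ℕ} (h : (n : ZMod p) = 3) : ¬ p ∣ n := by
  intro h1
  rw [← CharP.cast_eq_zero_iff (ZMod p) p, h] at h1
  have h2 : p ∣ 3 := by
    rw [← CharP.cast_eq_zero_iff (ZMod p) p]
    exact_mod_cast h1
  exact absurd (Nat.le_of_dvd (by norm_num) h2) (by omega)

theorem ndvd_four (h5 : 5 ≤ p) (he : orderOf (q : ZMod p) ∣ 2) : ¬ p ∣ q ^ 4 + q ^ 2 + 1 := by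
  refine ndvd_three h5 ?_
  have h2 := pow_one_of (k := 2) he
  have h4 := pow_one_of (k := 4) (he.trans (by norm_num))
  push_cast
  rw [h2, h4]
  norm_num

theorem ndvd_eight (h5 : 5 ≤ p) (he : orderOf (q : ZMod p) ∣ 4) : ¬ p ∣ q ^ 8 + q ^ 4 + 1 := by
  refine ndvd_three h5 ?_
  have h4 := pow_one_of (k := 4) he
  have h8 := pow_one_of (k := 8) (he.trans (by norm_num))
  push_cast
  rw [h8, h4]
  norm_num

/-- **The orders of `q`.** -/
theorem cases_order (hp : p.Prime) (h5 : 5 ≤ p) (hq : 1 ≤ q) (hpq : ¬ p ∣ q)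
    (h : p ∣ q ^ 12 * (q ^ 8 + q ^ 4 + 1) * (q ^ 6 - 1) * (q ^ 2 - 1)) :
    orderOf (q : ZMod p) ∣ 2 ∨ orderOf (q : ZMod p) = 3 ∨ orderOf (q : ZMod p) = 6 ∨ orderOf (q : ZMod p) = 12 := by
  have h12 : orderOf (q : ZMod p) ∣ 12 := by
    rw [hp.dvd_mul, hp.dvd_mul, hp.dvd_mul] at h
    rcases h with ((h | h) | h) | h
    · exact absurd (hp.dvd_of_dvd_pow h) hpq
    · exact (dvd_iff' hq 12).1 (by rw [← eight_mul hq]; exact Dvd.dvd.mul_left h _)
    · exact ((dvd_iff' hq 6).1 h).trans (by norm_num)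
    · exact ((dvd_iff' hq 2).1 h).trans (by norm_num)
  have h4 : orderOf (q : ZMod p) ≠ 4 := by
    intro h4
    rw [hp.dvd_mul, hp.dvd_mul, hp.dvd_mul] at h
    rcases h with ((h | h) | h) | h
    · exact absurd (hp.dvd_of_dvd_pow h) hpq
    · exact ndvd_eight h5 h4.dvd h
    · have := (dvd_iff' hq 6).1 h
      rw [h4] at this
      revert this
      decide
    · have := (dvd_iff' hq 2).1 h
      rw [h4] at this
      revert this
      decide
  have key : ∀ e, e ∣ 12 → e ≠ 4 → e ∣ 2 ∨ e = 3 ∨ e = 6 ∨ e = 12 := by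
    intro e he
    have : e ≤ 12 := Nat.le_of_dvd (by norm_num) he
    interval_cases e <;> revert he <;> decide
  exact key _ h12 h4

end Num

/-! ### the subgroups -/

section Grp

variable {K : Type} [Field K] {φ : K →+* K} {q : ℕ}

/-- `SL₂(q³)` -/
noncomputable def Bh (hφ : ∀ x, φ x = x ^ q) : SL2 K →* ↥(twistedD4 K q) :=
  ((chevD4.group K).subtype.comp (B φ)).codRestrict (twistedD4 K q) (fun g => B_mem hφ g)

theorem coe_Bh (hφ : ∀ x, φ x = x ^ q) (g : SL2 K) :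
    ((Bh hφ g : ↥(twistedD4 K q)) : GL chevD4.Idx K) = ((B φ g : ↥(chevD4.group K)) : GL chevD4.Idx K) := rfl

/-- the fixed field -/
abbrev Fq (φ : K →+* K) : Subfield K := φ.eqLocusField (RingHom.id K)

theorem Fq_fix (t : Fq φ) : φ (t : K) = t := t.2

theorem map_up' (t : Fq φ) : Matrix.SpecialLinearGroup.map (Fq φ).subtype (up t) = up (t : K) := by
  apply Subtype.ext
  show (Fq φ).subtype.mapMatrix (up t).1 = (up (t : K)).1
  ext i j
  fin_cases i <;> fin_cases j <;> simp [up]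

theorem map_lo' (t : Fq φ) : Matrix.SpecialLinearGroup.map (Fq φ).subtype (lo t) = lo (t : K) := by
  apply Subtype.ext
  show (Fq φ).subtype.mapMatrix (lo t).1 = (lo (t : K)).1
  ext i j
  fin_cases i <;> fin_cases j <;> simp [lo]

/-- the long root homomorphism -/
noncomputable def A (φ : K →+* K) : SL2 (Fq φ) →* ↥(chevD4.group K) :=
  (ph hD4 l23).comp (Matrix.SpecialLinearGroup.map (Fq φ).subtype)

theorem A_apply (g : SL2 (Fq φ)) : A φ g = ph hD4 l23 (Matrix.SpecialLinearGroup.map (Fq φ).subtype g) := rfl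

theorem A_mem (hφ : ∀ x, φ x = x ^ q) (g : SL2 (Fq φ)) :
    ((A φ g : ↥(chevD4.group K)) : GL chevD4.Idx K) ∈ twistedD4 K q := by
  have h3 : Subgroup.closure (Set.range (up (F := Fq φ)) ∪ Set.range (lo (F := Fq φ))) ≤
      (twistedD4 K q).comap ((chevD4.group K).subtype.comp (A φ)) := by
    rw [Subgroup.closure_le]
    rintro _ (⟨t, rfl⟩ | ⟨t, rfl⟩)
    · show ((A φ (up t) : ↥(chevD4.group K)) : GL chevD4.Idx K) ∈ twistedD4 K q
      rw [A_apply, map_up']
      exact A_up_mem hφ (Fq_fix t)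
    · show ((A φ (lo t) : ↥(chevD4.group K)) : GL chevD4.Idx K) ∈ twistedD4 K q
      rw [A_apply, map_lo']
      exact A_lo_mem hφ (Fq_fix t)
  exact h3 (mem_closure_SL2 g)

/-- the long root `SL₂(q)` -/
noncomputable def Ah (hφ : ∀ x, φ x = x ^ q) : SL2 (Fq φ) →* ↥(twistedD4 K q) :=
  ((chevD4.group K).subtype.comp (A φ)).codRestrict (twistedD4 K q) (fun g => A_mem hφ g)

theorem comm_AB (hφ : ∀ x, φ x = x ^ q) (g : SL2 K) (x : SL2 (Fq φ)) : Bh hφ g * Ah hφ x = Ah hφ x * Bh hφ g := by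
  have h1 := (commute_B (φ := φ) (Matrix.SpecialLinearGroup.map (Fq φ).subtype x) g).eq
  apply Subtype.ext
  exact (congrArg (fun z : ↥(chevD4.group K) => (z : GL chevD4.Idx K)) h1).symm

theorem card_Fq [Fintype K] (hq : 1 < q) (hK : Fintype.card K = q ^ 3) (hφ : ∀ x, φ x = x ^ q) :
    Nat.card (Fq φ) = q := by
  have h1 := D4U.card_fix_field hq hK hφ
  exact h1

theorem center_eq [Fintype K] (hq : IsPrimePow q) (hK : Fintype.card K = q ^ 3) :
    Subgroup.center ↥(twistedD4 K q) = ⊥ := by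
  have h := S1071.result hq hK
  have := h.1
  rcases Subgroup.Normal.eq_bot_or_eq_top (inferInstance : (center ↥(twistedD4 K q)).Normal) with h1 | h1
  · exact h1
  · exact absurd ⟨⟨fun a b => ((mem_center_iff.1 (h1 ▸ mem_top b)) a)⟩⟩ h.2

theorem finite_td4 [Finite K] : Finite ↥(twistedD4 K q) := by
  have : Finite (GL chevD4.Idx K) := inferInstance
  infer_instance

/-- **`q` of order `1` or `2` modulo `p`.** -/
theorem edat_one [Fintype K] (hq : IsPrimePow q) (hK : Fintype.card K = q ^ 3) {p : ℕ} (hp : p.Prime) (h5 : 5 ≤ p)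
    (he : orderOf (q : ZMod p) ∣ 2) : EDat p ↥(twistedD4 K q) := by
  obtain ⟨φ, hφ⟩ := D4Fixed.exists_frob (K := K) (n := 3) hq hK
  have hq1 : 1 ≤ q := hq.pos
  have hq2 : 2 ≤ q := hq.two_le
  have := finite_td4 (K := K) (q := q)
  have hp2 : p ∣ q ^ 2 - 1 := (dvd_iff' hq1 2).2 he
  have hq4 : 4 ≤ q := by
    have h2 : q ^ 2 - 1 = (q - 1) * (q + 1) := by
      obtain ⟨t, rfl⟩ := Nat.exists_eq_add_of_le' hq2
      rw [show t + 2 - 1 = t + 1 by omega, show (t + 2) ^ 2 = (t + 1) * (t + 2 + 1) + 1 by ring]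
      rfl
    have h1 := hp2
    rw [h2, hp.dvd_mul] at h1
    rcases h1 with h1 | h1
    · have := Nat.le_of_dvd (by omega) h1
      omega
    · have := Nat.le_of_dvd (by omega) h1
      omega
  have hcF : Nat.card (Fq φ) = q := card_Fq (by omega) hK hφ
  have hfF : Finite (Fq φ) := inferInstance
  let _ : Fintype (Fq φ) := Fintype.ofFinite _
  have hcF' : Fintype.card (Fq φ) = q := by rw [← Nat.card_eq_fintype_card, hcF]
  have hcK : 4 ≤ Nat.card K := by
    rw [Nat.card_eq_fintype_card, hK]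
    exact hq4.trans (Nat.le_self_pow (by norm_num) q)
  have h2p : ¬ p ∣ 2 := fun h => absurd (Nat.le_of_dvd (by norm_num) h) (by omega)
  have hA : Fac p (q ^ 2 - 1) (Bh hφ).range := by
    refine fac_range hp (SignalizersComponents.SLQuasisimple.isQuasisimple_two hcK) (not_dvd_center K hp h2p) ?_ _
      ⟨up 1, fun h => ?_⟩
    · rw [H953.card_SL 2 (by norm_num), hK, show Finset.Icc 2 2 = {2} from rfl, Finset.prod_singleton]
      refine Dvd.dvd.mul_left ?_ _
      rw [← pow_mul, ← sub_one_mul hq1]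
      exact Dvd.intro _ rfl
    · have h2 : B φ (up 1) = 1 := Subtype.ext (congrArg (fun z : ↥(twistedD4 K q) => (z : GL chevD4.Idx K)) h)
      rcases kerPM_B φ _ h2 with h3 | h3
      · have := congrArg (fun z : SL2 K => z.1 0 1) h3
        simp [up] at this
      · have := congrArg (fun z : SL2 K => z.1 0 1) h3
        simp [up] at this
  have hB : Fac p (q ^ 2 - 1) (Ah hφ).range := by
    refine fac_range hp (SignalizersComponents.SLQuasisimple.isQuasisimple_two (by rw [hcF]; exact hq4))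
      (not_dvd_center (Fq φ) hp h2p) ?_ _ ⟨up 1, fun h => ?_⟩
    · rw [H953.card_SL 2 (by norm_num), hcF', show Finset.Icc 2 2 = {2} from rfl, Finset.prod_singleton]
      exact Dvd.intro_left _ rfl
    · have h2 : A φ (up 1) = 1 := Subtype.ext (congrArg (fun z : ↥(twistedD4 K q) => (z : GL chevD4.Idx K)) h)
      rw [A_apply, map_up'] at h2
      rcases KSL2.kerPM_ph hD4 l23 _ h2 with h3 | h3
      · have := congrArg (fun z : SL2 K => z.1 0 1) h3
        simp [up] at this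
      · have := congrArg (fun z : SL2 K => z.1 0 1) h3
        simp [up] at this
  refine edat_of hp (center_eq hq hK) (c := q ^ 2 - 1) (m := q ^ 12 * (q ^ 8 + q ^ 4 + 1) * (q ^ 4 + q ^ 2 + 1)) ?_
    (A := (Bh hφ).range) (B := (Ah hφ).range) (Ls := []) ?_ ?_ hp2 ?_ ?_
  · have : 4 ^ 2 ≤ q ^ 2 := Nat.pow_le_pow_left hq4 2
    omega
  · intro L hL
    simp only [List.mem_cons, List.not_mem_nil, or_false] at hL
    rcases hL with rfl | rfl
    · exact hA
    · exact hB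
  · rw [List.pairwise_cons]
    refine ⟨?_, List.pairwise_singleton _ _⟩
    intro B' hB'
    rw [List.mem_singleton] at hB'
    subst hB'
    rintro _ ⟨a, rfl⟩ _ ⟨b, rfl⟩
    exact comm_AB hφ a b
  · rw [S1067.result hq hK, ← sub_one_mul hq1, List.length_nil]
    refine dvd_of_eq ?_
    ring
  · rw [hp.dvd_mul, hp.dvd_mul]
    rintro ((h | h) | h)
    · have h1 := hp.dvd_of_dvd_pow h
      have h2 := pow_one_of (k := 2) he
      rw [(CharP.cast_eq_zero_iff (ZMod p) p q).2 h1, zero_pow (by norm_num)] at h2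
      have : Fact p.Prime := ⟨hp⟩
      exact zero_ne_one h2
    · exact ndvd_eight h5 (he.trans (by norm_num)) h
    · exact ndvd_four h5 he h

/-! ### the long root `SL₃(q)` -/

/-- the long roots -/
def R3 : List (List ℕ) := [[0, 14, 23], [9, 0, 22], [0, 1, 0]]

theorem isAn : IsAn chevD4 3 R3 [] :=
  { lt := by decide +kernel, neg := by decide +kernel, comm := by decide +kernel, br := by decide +kernel }

theorem rt_mem : ∀ i j : Fin 3, rt R3 i j ∈ [0, 14, 23, 9, 22, 1] := by decide +kernel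

theorem long_mem (hφ : ∀ x, φ x = x ^ q) {r : ℕ} (hr : r ∈ [0, 14, 23, 9, 22, 1]) {v : K} (hv : φ v = v) :
    xG hD4 r v ∈ twistedD4 K q := by
  rw [xG_eq]
  simp only [List.mem_cons, List.not_mem_nil, or_false] at hr
  rcases hr with rfl | rfl | rfl | rfl | rfl | rfl
  · exact x0_mem hφ hv
  · exact D4Perfect.x14_mem' hφ hv
  · exact x23_mem hφ hv
  · exact x9_mem' hφ hv
  · exact D4Perfect.x22_mem hφ hv
  · exact x1_mem hφ hv

theorem rx_coe (i j : Fin 3) (t : K) : ((rx hD4 K 3 R3 [] i j t : ↥(chevD4.group K)) : GL chevD4.Idx K) =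
    xG hD4 (rt R3 i j) t := by
  have h1 : (sg [] (i : ℕ) (j : ℕ)) = 1 := by
    unfold sg
    simp
  unfold rx
  rw [h1, Int.cast_one, one_mul]
  rfl

/-- the root elements of the long root `SL₃(q)` -/
noncomputable def xl (hφ : ∀ x, φ x = x ^ q) (i j : Fin 3) (t : Fq φ) : ↥(twistedD4 K q) :=
  ⟨((rx hD4 K 3 R3 [] i j (t : K) : ↥(chevD4.group K)) : GL chevD4.Idx K), by
    rw [rx_coe]
    exact long_mem hφ (rt_mem i j) (Fq_fix t)⟩

theorem coe_xl (hφ : ∀ x, φ x = x ^ q) (i j : Fin 3) (t : Fq φ) : ((xl hφ i j t : ↥(twistedD4 K q)) :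
    GL chevD4.Idx K) = ((rx hD4 K 3 R3 [] i j (t : K) : ↥(chevD4.group K)) : GL chevD4.Idx K) := rfl

theorem xl_stein (hφ : ∀ x, φ x = x ^ q) : AGraded.SteinRel (xl hφ) := by
  have h := rx_stein hD4 K isAn
  refine ⟨fun i j hij a b => ?_, fun i j k l hij hkl hjk hil a b => ?_, fun i j k hij hjk hik a b => ?_⟩
  · exact Subtype.ext (congrArg (fun z : ↥(chevD4.group K) => (z : GL chevD4.Idx K)) (h.add i j hij (a : K) (b : K)))
  · exact Subtype.ext (congrArg (fun z : ↥(chevD4.group K) => (z : GL chevD4.Idx K))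
      (h.comm i j k l hij hkl hjk hil (a : K) (b : K)))
  · exact Subtype.ext (congrArg (fun z : ↥(chevD4.group K) => (z : GL chevD4.Idx K))
      (h.br i j k hij hjk hik (a : K) (b : K)))

theorem xl_h (hφ : ∀ x, φ x = x ^ q) : CTFrame.Torus.HRel (xl hφ) := by
  intro i j hij a b ha hb
  have h := rx_h hD4 K isAn i j hij (a : K) (b : K) (fun h => ha (Subtype.ext h)) (fun h => hb (Subtype.ext h))
  exact Subtype.ext (congrArg (fun z : ↥(chevD4.group K) => (z : GL chevD4.Idx K)) h)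

/-- the torus element -/
theorem comm_tor (hφ : ∀ x, φ x = x ^ q) {c : Kˣ} (hc : c ^ (q ^ 2 + q + 1) = 1) {r : ℕ}
    (hr : r ∈ [0, 14, 23, 9, 22, 1]) (t : K) :
    ((Bh hφ (dg c) : ↥(twistedD4 K q)) : GL chevD4.Idx K) * xG hD4 r t =
      xG hD4 r t * ((Bh hφ (dg c) : ↥(twistedD4 K q)) : GL chevD4.Idx K) := by
  have hc0 : (c : K) ≠ 0 := c.ne_zero
  have htab : ∀ r ∈ [0, 14, 23, 9, 22, 1], r < chevD4.nroots ∧ chevD4.cartan 0 r = chevD4.cartan 2 r ∧
      chevD4.cartan 0 r = chevD4.cartan 3 r := by decide +kernel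
  obtain ⟨hr1, hr2, hr3⟩ := htab r hr
  have hφ1 : φ (c : K) = (c : K) ^ q := hφ _
  have hφ2 : φ (φ (c : K)) = (c : K) ^ q ^ 2 := by rw [hφ1, map_pow, hφ1, ← pow_mul, ← pow_two]
  have hcc : (c : K) ^ (q ^ 2 + q + 1) = 1 := by
    have := congrArg Units.val hc
    rwa [Units.val_pow_eq_pow_val, Units.val_one] at this
  rw [coe_Bh, coe_B_dg]
  have h1 := torus_conj (a := (c : K)) (b := φ (c : K)) (c := φ (φ (c : K))) hc0 (by rw [hφ1]; exact pow_ne_zero _ hc0)
    (by rw [hφ2]; exact pow_ne_zero _ hc0) hr1 t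
  rw [← hr2, ← hr3, ← mul_assoc ((φ (c : K)) ^ _), ← mul_assoc, ← mul_zpow, ← mul_zpow, hφ2, hφ1, ← pow_add,
    ← pow_succ', show q + q ^ 2 + 1 = q ^ 2 + q + 1 by ring, hcc, one_zpow, one_mul] at h1
  rw [hφ2, hφ1]
  exact mul_inv_eq_iff_eq_mul.1 h1

/-- a torus element of order divisible by `q² + q + 1` -/
theorem exists_tor [Fintype K] (hq : IsPrimePow q) (hK : Fintype.card K = q ^ 3) (hφ : ∀ x, φ x = x ^ q) :
    ∃ c : Kˣ, c ^ (q ^ 2 + q + 1) = 1 ∧ q ^ 2 + q + 1 ∣ orderOf (Bh hφ (dg c)) := by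
  obtain ⟨g, hg⟩ := IsCyclic.exists_generator (α := Kˣ)
  have hog : orderOf g = q ^ 3 - 1 := by
    rw [orderOf_eq_card_of_forall_mem_zpowers hg, Nat.card_units, Nat.card_eq_fintype_card, hK]
  have hq2 : 2 ≤ q := hq.two_le
  have h3 : q ^ 3 - 1 = (q - 1) * (q ^ 2 + q + 1) := by
    obtain ⟨x, rfl⟩ := Nat.exists_eq_add_of_le' (show 1 ≤ q by omega)
    rw [Nat.add_sub_cancel]
    apply Nat.sub_eq_of_eq_add
    ring
  have hoc : orderOf (g ^ (q - 1)) = q ^ 2 + q + 1 := by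
    rw [orderOf_pow_of_dvd (by omega) (by rw [hog, h3]; exact Dvd.intro _ rfl), hog, h3,
      Nat.mul_div_cancel_left _ (by omega)]
  refine ⟨g ^ (q - 1), ?_, ?_⟩
  · rw [← hoc]
    exact pow_orderOf_eq_one _
  · set c := g ^ (q - 1) with hc
    set n := orderOf (Bh hφ (dg c)) with hn
    have h1 : Bh hφ (dg (c ^ n)) = 1 := by
      rw [map_pow, map_pow]
      exact pow_orderOf_eq_one _
    have h2 : B φ (dg (c ^ n)) = 1 := Subtype.ext (congrArg (fun z : ↥(twistedD4 K q) => (z : GL chevD4.Idx K)) h1)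
    have h4 : dg (c ^ (n * 2)) = 1 := by
      rw [pow_mul, map_pow]
      rcases kerPM_B φ _ h2 with h | h
      · rw [h, one_pow]
      · rw [h]
        simp
    have h5 : c ^ (n * 2) = 1 := dg_injective (by rw [h4, map_one])
    have h6 : q ^ 2 + q + 1 ∣ n * 2 := by
      rw [← hoc]
      exact orderOf_dvd_of_pow_eq_one h5
    refine Nat.Coprime.dvd_of_dvd_mul_right ?_ h6
    rw [Nat.coprime_comm, Nat.coprime_two_left]
    have h7 : q ^ 2 + q + 1 = q * (q + 1) + 1 := by ring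
    rw [h7]
    exact (Nat.even_mul_succ_self q).add_one

/-- **`q` of order `3` modulo `p`.** -/
theorem edat_three [Fintype K] (hq : IsPrimePow q) (hK : Fintype.card K = q ^ 3) {p : ℕ} (hp : p.Prime) (h5 : 5 ≤ p)
    (he : orderOf (q : ZMod p) = 3) : EDat p ↥(twistedD4 K q) := by
  obtain ⟨φ, hφ⟩ := D4Fixed.exists_frob (K := K) (n := 3) hq hK
  have hq1 : 1 ≤ q := hq.pos
  have hq2 : 2 ≤ q := hq.two_le
  have := finite_td4 (K := K) (q := q)
  have hp3 : p ∣ q ^ 3 - 1 := (dvd_iff' hq1 3).2 he.dvd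
  have hcF : Nat.card (Fq φ) = q := card_Fq (by omega) hK hφ
  have hfF : Finite (Fq φ) := inferInstance
  let _ : Fintype (Fq φ) := Fintype.ofFinite _
  have hcF' : Fintype.card (Fq φ) = q := by rw [← Nat.card_eq_fintype_card, hcF]
  have h3p : ¬ p ∣ 3 := fun h => absurd (Nat.le_of_dvd (by norm_num) h) (by omega)
  obtain ⟨π, h1, h2, -⟩ := CTFrame.Hom.exists_hom (xl_stein hφ) (xl_h hφ) (by rw [Fintype.card_fin])
  have hL : Fac p (q ^ 3 - 1) π.range := by
    refine fac_range hp (SignalizersComponents.SLQuasisimple.isQuasisimple_of_three_le (by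
      rw [Fintype.card_fin])) (not_dvd_center (Fq φ) hp h3p) ?_ π ?_
    · rw [H953.card_SL 3 (by norm_num), hcF', show Finset.Icc 2 3 = {2, 3} from rfl,
        Finset.prod_pair (by norm_num)]
      exact Dvd.dvd.mul_left (Dvd.intro_left _ rfl) _
    · have h01 : (0 : Fin 3) ≠ 1 := by decide
      refine ⟨Matrix.SpecialLinearGroup.transvection h01 1, ?_⟩
      rw [h1]
      intro h3
      have h4 := congrArg (fun z : ↥(twistedD4 K q) => (z : GL chevD4.Idx K)) h3
      change ((xl hφ 0 1 1 : ↥(twistedD4 K q)) : GL chevD4.Idx K) = 1 at h4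
      rw [coe_xl, rx_coe] at h4
      have h5 := (xG_eq_one_iff hD4 (isAn.lt 0 1 h01) _).1 h4
      exact one_ne_zero h5
  obtain ⟨c, hc, hoc⟩ := exists_tor hq hK hφ
  set v := Bh hφ (dg c) with hv
  have hcomm : ∀ a ∈ π.range, ∀ b ∈ zpowers v, a * b = b * a := by
    have h3 : π.range ≤ centralizer ((zpowers v : Subgroup ↥(twistedD4 K q)) : Set ↥(twistedD4 K q)) := by
      rw [h2, Subgroup.closure_le]
      rintro _ ⟨i, j, hij, t, rfl⟩
      rw [SetLike.mem_coe, mem_centralizer_iff]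
      rintro _ ⟨n, rfl⟩
      have h4 : Commute v (xl hφ i j t) := by
        apply Subtype.ext
        show (v : GL chevD4.Idx K) * (xl hφ i j t : ↥(twistedD4 K q)) = (xl hφ i j t : ↥(twistedD4 K q)) * v
        rw [coe_xl, rx_coe]
        exact comm_tor hφ hc (rt_mem i j) _
      exact (h4.zpow_left n).eq
    intro a ha b hb
    exact (mem_centralizer_iff.1 (h3 ha) b hb).symm
  have hpp := pp_sup hp hcomm (hL.inf hcomm)
  have hcz : Nat.card ↥(zpowers v) = orderOf v := Nat.card_zpowers v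
  have h0 : q ^ 3 - 1 ≠ 0 := by
    have := Nat.pow_le_pow_left hq2 3
    omega
  have h0' : q ^ 2 + q + 1 ≠ 0 := by omega
  have hpp2 : PP p ((q ^ 3 - 1) * (q ^ 2 + q + 1)) (Nat.card π.range * Nat.card ↥(zpowers v)) :=
    PP.mul hp h0 h0' hL.pp (PP.of_dvd (by rw [hcz]; exact hoc))
  have hvne : zpowers v ≠ ⊥ := by
    intro h
    rw [zpowers_eq_bot] at h
    rw [h, orderOf_one] at hoc
    have := Nat.le_of_dvd one_pos hoc
    omega
  refine ⟨π.range ⊔ zpowers v, π.range, ?_, ?_, hL.qs, hL.dvd hp hp3, card_lt (center_eq hq hK) hvne hcomm⟩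
  · refine index_of_pp hp (PP.trans (PP.trans ?_ hpp2) hpp)
    have e : Nat.card ↥(twistedD4 K q) = (q ^ 3 - 1) * (q ^ 2 + q + 1) *
        (q ^ 12 * ((q ^ 4 - q ^ 2 + 1) * (q ^ 2 - q + 1)) * (q ^ 3 + 1) * (q ^ 2 - 1)) := by
      rw [S1067.result hq hK, ← four_mul, ← two_mul', ← cube_mul hq1]
      ring
    rw [e]
    refine PP.cancel hp ?_ (PP.of_dvd dvd_rfl)
    have hone : ∀ k, 3 ∣ k → (q : ZMod p) ^ k = 1 := fun k hk => pow_one_of (by rw [he]; exact hk)
    have hc3 : ¬ p ∣ q ^ 3 + 1 := ndvd_two h5 (by push_cast; rw [hone 3 dvd_rfl]; norm_num)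
    have hc6 : ¬ p ∣ q ^ 6 + 1 := ndvd_two h5 (by push_cast; rw [hone 6 (by norm_num)]; norm_num)
    rw [hp.dvd_mul, hp.dvd_mul, hp.dvd_mul, hp.dvd_mul]
    rintro (((h | (h | h)) | h) | h)
    · have h1 := hp.dvd_of_dvd_pow h
      have h2 := hone 3 dvd_rfl
      rw [(CharP.cast_eq_zero_iff (ZMod p) p q).2 h1, zero_pow (by norm_num)] at h2
      have : Fact p.Prime := ⟨hp⟩
      exact zero_ne_one h2
    · exact hc6 (by rw [← six_mul]; exact Dvd.dvd.mul_left h _)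
    · exact hc3 (by rw [← three_mul']; exact Dvd.dvd.mul_left h _)
    · exact hc3 h
    · have := (dvd_iff' hq1 2).1 h
      rw [he] at this
      revert this
      decide
  · refine sup_le le_normalizer ?_
    refine le_trans ?_ (Subgroup.centralizer_le_normalizer _)
    intro b hb
    rw [mem_centralizer_iff]
    intro a ha
    exact hcomm a ha b hb

end Grp

end Cfsg.Agent.H157.S5.TD4Dat
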